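import Groth.Prelude.Def_CAlg
import Groth.Prelude.Def_EGA4b
import Groth.Agent.Depth.Basic
import Groth.Agent.Depth.CM
import Mathlib.RingTheory.Flat.Basic
import Mathlib.RingTheory.Flat.Tensor
import Mathlib.LinearAlgebra.TensorProduct.Quotient
import Mathlib.RingTheory.Ideal.Height
import Mathlib.RingTheory.Artinian.Ring
import Mathlib.RingTheory.Regular.RegularSequence

/-!
# Flatness over an Artinian local ring from flatness in codimension one

`B` with `(S₁)`, `B_red` with `(S₂)`, flat with reduced fibre in codimension `≤ 1`: then `B` is flat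
and the fibre is reduced.  Everything is done elementwise.
-/

set_option autoImplicit false

universe u

open TensorProduct IsLocalRing

namespace Groth.Agent.FlatCodim

section Noeth

variable {B : Type u} [CommRing B] [IsNoetherianRing B]

lemma exists_prime_colon {T : Ideal B} {q : Ideal B} [q.IsPrime] (hT : T ≤ q) :
    ∃ (y : B) (P : Ideal B), P.IsPrime ∧ P ≤ q ∧ T ≤ P ∧ ∀ s, s ∈ P ↔ s * y ∈ T := by
  obtain ⟨P, ⟨⟨y, rfl⟩, hPq⟩, hmax⟩ := exists_maximal_of_wellFoundedGT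
    (fun P : Ideal B => (∃ y, P = Submodule.comap (LinearMap.mulRight B y) T) ∧ P ≤ q)
    ⟨T, ⟨1, by ext; simp⟩, hT⟩
  refine ⟨y, _, ⟨fun h => (inferInstance : q.IsPrime).ne_top (top_le_iff.1 (h ▸ hPq)), ?_⟩, hPq,
    fun s hs => T.mul_mem_right y hs, fun s => Iff.rfl⟩
  intro a b hab
  by_contra! hne
  set P' := Submodule.comap (LinearMap.mulRight B (a * y)) T
  have hPP' : Submodule.comap (LinearMap.mulRight B y) T ≤ P' := fun s hs => by
    show s * (a * y) ∈ T
    rw [mul_left_comm]; exact T.mul_mem_left a hs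
  have hb : b ∈ P' := by
    show b * (a * y) ∈ T
    rw [← mul_assoc, mul_comm b a]; exact hab
  obtain ⟨w, hw, hwq⟩ : ∃ w ∈ P', w ∉ q := SetLike.not_le_iff_exists.1 fun h =>
    hne.2 (hmax ⟨⟨_, rfl⟩, h⟩ hPP' hb)
  set P'' := Submodule.comap (LinearMap.mulRight B (w * y)) T
  have hP'' : P'' ≤ q := fun s hs => by
    have : s * w ∈ Submodule.comap (LinearMap.mulRight B y) T := by
      show s * w * y ∈ T
      rw [mul_assoc]; exact hs
    exact ((inferInstance : q.IsPrime).mem_or_mem (hPq this)).resolve_right hwq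
  refine hne.1 (hmax ⟨⟨_, rfl⟩, hP''⟩ (fun s hs => ?_) ?_)
  · show s * (w * y) ∈ T
    rw [mul_left_comm]; exact T.mul_mem_left w hs
  · show a * (w * y) ∈ T
    rw [mul_left_comm]; exact hw

lemma min_of_depth_zero (hS1 : LocCoh.HasSk 1 B B) {z : B} {P : Ideal B} [P.IsPrime]
    (hP : ∀ s, s ∈ P ↔ s * z = 0) : P ∈ minimalPrimes B := by
  have hd : LocCoh.depth (Localization.AtPrime P) (Localization.AtPrime P) = 0 := by
    refine Order.lt_one_iff.1 (lt_of_not_ge fun h => ?_)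
    obtain ⟨r, hr, hreg⟩ := (Depth.one_le_idealDepth_iff
      (Depth.smul_top_ne_top_self (maximalIdeal.isMaximal (Localization.AtPrime P)).ne_top)).1 h
    obtain ⟨⟨s, u⟩, rfl⟩ := IsLocalization.mk'_surjective P.primeCompl r
    have hs : s ∈ P := (IsLocalization.AtPrime.mk'_mem_maximal_iff _ P s u).1 hr
    have h0 : algebraMap B (Localization.AtPrime P) z = 0 := hreg (by
      show IsLocalization.mk' _ s u * algebraMap B _ z = IsLocalization.mk' _ s u * 0
      rw [mul_zero, mul_comm, IsLocalization.mul_mk'_eq_mk'_of_mul, mul_comm, (hP s).1 hs,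
        IsLocalization.mk'_zero])
    obtain ⟨t, ht⟩ := (IsLocalization.map_eq_zero_iff P.primeCompl _ z).1 h0
    exact t.2 ((hP t).2 ht)
  have h := hS1 P
  rw [Depth.depth_congr (Depth.localizedSelfEquiv P.primeCompl), hd,
    Module.supportDim_eq_of_equiv (Depth.localizedSelfEquiv P.primeCompl),
    Module.supportDim_self_eq_ringKrullDim,
    IsLocalization.AtPrime.ringKrullDim_eq_height P (Localization.AtPrime P)] at h
  rw [← Ideal.height_eq_zero_iff]
  rcases min_le_iff.1 h with h | h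
  · exact absurd h (by norm_cast)
  · exact nonpos_iff_eq_zero.1 (by exact_mod_cast h)

lemma sat_bot (hS1 : LocCoh.HasSk 1 B B) (x : B) (q : Ideal B) [q.IsPrime]
    (h : ∀ p ∈ minimalPrimes B, p ≤ q → ∃ t ∉ p, t * x = 0) : ∃ t ∉ q, t * x = 0 := by
  by_contra! hne
  obtain ⟨y, P, hP, hPq, hTP, hPy⟩ := exists_prime_colon
    (T := Submodule.comap (LinearMap.mulRight B x) ⊥) (q := q)
    (fun t ht => not_not.1 fun htq => hne t htq ht)
  obtain ⟨t, ht, htx⟩ := h P (min_of_depth_zero hS1 (z := y * x) fun s => by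
    rw [hPy, ← mul_assoc]; rfl) hPq
  exact ht (hTP htx)

lemma exists_nil_mul {x : B} {q : Ideal B} [q.IsPrime]
    (h : ∀ p ∈ minimalPrimes B, p ≤ q → x ∈ p) : ∃ t ∉ q, t * x ∈ nilradical B := by
  by_contra! hne
  have hT : Submodule.comap (LinearMap.mulRight B x) (nilradical B) ≤ q :=
    fun t ht => not_not.1 fun htq => hne t htq ht
  have hx : algebraMap B (Localization.AtPrime q) x ∈ nilradical (Localization.AtPrime q) := by
    rw [mem_nilradical, nilpotent_iff_mem_prime]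
    intro J hJ
    obtain ⟨p, hp, hpJ⟩ := Ideal.exists_minimalPrimes_le
      (bot_le : (⊥ : Ideal B) ≤ J.comap (algebraMap B (Localization.AtPrime q)))
    have hle : J.comap (algebraMap B (Localization.AtPrime q)) ≤ q := fun s hs => by
      by_contra hsq
      exact hJ.ne_top (Ideal.eq_top_of_isUnit_mem _ hs
        (IsLocalization.map_units _ (⟨s, hsq⟩ : q.primeCompl)))
    exact hpJ (h p hp (hpJ.trans hle))
  obtain ⟨n, hn⟩ := hx
  rw [← map_pow] at hn
  obtain ⟨t, ht⟩ := (IsLocalization.map_eq_zero_iff q.primeCompl _ _).1 hn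
  refine hne t t.2 ⟨n + 1, ?_⟩
  have : (t : B) * x ^ n = 0 := ht
  show ((t : B) * x) ^ (n + 1) = 0
  rw [mul_pow]
  linear_combination ((t : B) ^ n * x) * this

lemma exists_regular_pair (hS2 : LocCoh.HasSk 2 (B ⧸ nilradical B) (B ⧸ nilradical B))
    {q : Ideal B} [q.IsPrime] (hq : ¬ q.height ≤ 1) :
    ∃ s₁ ∈ q, ∃ s₂ ∈ q, (∀ p ∈ minimalPrimes B, p ≤ q → s₁ ∉ p) ∧
      ∀ c₁ c₂ : B, s₁ * c₂ - s₂ * c₁ ∈ nilradical B →
        ∃ t ∉ q, ∃ e, t * c₁ - s₁ * e ∈ nilradical B := by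
  let π := Ideal.Quotient.mk (nilradical B)
  have hN : nilradical B ≤ q := nilradical_le_prime q
  let Q := q.map π
  have hQc : Q.comap π = q := by
    rw [Ideal.comap_map_of_surjective _ Ideal.Quotient.mk_surjective, sup_eq_left]
    exact fun x hx => hN (Ideal.Quotient.eq_zero_iff_mem.1 hx)
  have : Q.IsPrime := Ideal.map_isPrime_of_surjective Ideal.Quotient.mk_surjective
    (by rw [Ideal.mk_ker]; exact hN)
  have hmem : ∀ x, π x ∈ Q ↔ x ∈ q := fun x => by
    conv_rhs => rw [← hQc]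
    rfl
  have hQh : ¬ Q.height ≤ 1 := by
    intro h
    refine hq ((Ideal.height_le_iff (n := 1)).2 fun p hp hpq => ?_)
    have hcm : ∀ (p : Ideal B) [p.IsPrime], (p.map π).comap π = p := fun p _ => by
      rw [Ideal.comap_map_of_surjective _ Ideal.Quotient.mk_surjective, sup_eq_left]
      exact fun x hx => nilradical_le_prime p (Ideal.Quotient.eq_zero_iff_mem.1 hx)
    have hpr : ∀ (p : Ideal B) [p.IsPrime], (p.map π).IsPrime := fun p _ =>
      Ideal.map_isPrime_of_surjective Ideal.Quotient.mk_surjective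
        (by rw [Ideal.mk_ker]; exact nilradical_le_prime p)
    have := hpr p
    have hlt : p.map π < Q := lt_of_le_of_ne (Ideal.map_mono hpq.le) fun he => hpq.ne (by
      rw [← hcm p, he, hcm q])
    have h0 := (Ideal.height_le_iff (n := 1)).1 (by exact_mod_cast h) _ this hlt
    rw [Nat.cast_one, Order.lt_one_iff, Ideal.height_eq_zero_iff] at h0
    rw [Nat.cast_one, Order.lt_one_iff, Ideal.height_eq_zero_iff]
    refine ⟨⟨hp, bot_le⟩, fun p' hp' hle => ?_⟩
    have := hp'.1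
    rw [← hcm p, ← hcm p']
    exact Ideal.comap_mono (h0.2 ⟨hpr p', bot_le⟩ (Ideal.map_mono hle))
  have hd : (2 : ℕ∞) ≤ LocCoh.depth (Localization.AtPrime Q) (Localization.AtPrime Q) := by
    have h := hS2 Q
    rw [Depth.depth_congr (Depth.localizedSelfEquiv Q.primeCompl),
      Module.supportDim_eq_of_equiv (Depth.localizedSelfEquiv Q.primeCompl),
      Module.supportDim_self_eq_ringKrullDim,
      IsLocalization.AtPrime.ringKrullDim_eq_height Q (Localization.AtPrime Q)] at h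
    have h2 : (2 : ℕ∞) ≤ Q.height := by
      rw [not_le, ← ENat.add_one_le_iff ENat.one_ne_top] at hQh; exact hQh
    have h2' : ((2 : ℕ) : WithBot ℕ∞) ≤ (Q.height : WithBot ℕ∞) := WithBot.coe_le_coe.2 h2
    rw [min_eq_left h2'] at h
    exact WithBot.coe_le_coe.1 h
  obtain ⟨rs, hl, hm, hr⟩ := (Depth.le_idealDepth_iff_exists
    (Depth.smul_top_ne_top_self (maximalIdeal.isMaximal _).ne_top) (n := 2)).1 hd
  obtain ⟨r₁, r₂, rfl⟩ := List.length_eq_two.1 hl
  rw [RingTheory.Sequence.isWeaklyRegular_cons_iff,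
    RingTheory.Sequence.isWeaklyRegular_singleton_iff] at hr
  obtain ⟨⟨σ₁, u₁⟩, rfl⟩ := IsLocalization.mk'_surjective Q.primeCompl r₁
  obtain ⟨⟨σ₂, u₂⟩, rfl⟩ := IsLocalization.mk'_surjective Q.primeCompl r₂
  obtain ⟨s₁, rfl⟩ := Ideal.Quotient.mk_surjective σ₁
  obtain ⟨s₂, rfl⟩ := Ideal.Quotient.mk_surjective σ₂
  let ρ := algebraMap (B ⧸ nilradical B) (Localization.AtPrime Q)
  simp only at hr hm
  refine ⟨s₁, (hmem _).1 ((IsLocalization.AtPrime.mk'_mem_maximal_iff _ Q _ u₁).1 (hm _ List.mem_cons_self)),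
    s₂, (hmem _).1 ((IsLocalization.AtPrime.mk'_mem_maximal_iff _ Q _ u₂).1 (hm _ (List.mem_cons_of_mem _ List.mem_cons_self))), ?_, ?_⟩
  · intro p hp hpq hs
    have := hp.1.1
    obtain ⟨c, hc, hcs⟩ : ∃ c ∉ p, c * s₁ ∈ nilradical B := exists_nil_mul fun p' hp' hle => by
      rwa [le_antisymm hle (hp.2 hp'.1 hle)]
    have h0 : ρ (π c) = 0 := hr.1 (by
      show IsLocalization.mk' _ (π s₁) u₁ * ρ (π c) = IsLocalization.mk' _ (π s₁) u₁ * 0
      rw [mul_zero, mul_comm, IsLocalization.mul_mk'_eq_mk'_of_mul, ← map_mul,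
        Ideal.Quotient.eq_zero_iff_mem.2 hcs, IsLocalization.mk'_zero])
    obtain ⟨t, ht⟩ := (IsLocalization.map_eq_zero_iff Q.primeCompl _ _).1 h0
    obtain ⟨b, hb⟩ : ∃ b, π b = (t : B ⧸ nilradical B) := Ideal.Quotient.mk_surjective _
    have hbq : b ∉ q := fun h => t.2 (show (t : B ⧸ nilradical B) ∈ Q from hb ▸ (hmem b).2 h)
    have hbc : b * c ∈ nilradical B := Ideal.Quotient.eq_zero_iff_mem.1
      ((map_mul π b c).trans (by rw [hb]; exact ht))
    exact hbq (hpq ((hp.1.1.mem_or_mem (nilradical_le_prime p hbc)).resolve_right hc))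
  · intro c₁ c₂ hc
    have he : IsLocalization.mk' (Localization.AtPrime Q) (π s₂) u₂ * (ρ (π c₁) * ρ u₂) =
        IsLocalization.mk' (Localization.AtPrime Q) (π s₁) u₁ * (ρ (π c₂) * ρ u₁) := by
      rw [mul_left_comm, IsLocalization.mk'_spec, mul_left_comm, IsLocalization.mk'_spec,
        ← map_mul, ← map_mul, ← map_mul, ← map_mul]
      refine congrArg ρ ((Ideal.Quotient.eq).2 ?_).symm
      rwa [mul_comm c₂, mul_comm c₁]
    have hz : Submodule.Quotient.mk (ρ (π c₁) * ρ u₂) =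
        (0 : QuotSMulTop (IsLocalization.mk' (Localization.AtPrime Q) (π s₁) u₁) (Localization.AtPrime Q)) := by
      refine hr.2 (?_ : IsLocalization.mk' (Localization.AtPrime Q) (π s₂) u₂ • _ = _ • (0 : QuotSMulTop _ _))
      rw [smul_zero, ← Submodule.Quotient.mk_smul, Submodule.Quotient.mk_eq_zero, smul_eq_mul, he]
      exact Submodule.smul_mem_pointwise_smul _ _ _ trivial
    rw [Submodule.Quotient.mk_eq_zero] at hz
    obtain ⟨e, -, hee⟩ := Submodule.mem_smul_pointwise_iff_exists _ _ _ |>.1 hz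
    obtain ⟨⟨ε, v⟩, rfl⟩ := IsLocalization.mk'_surjective Q.primeCompl e
    rw [smul_eq_mul, ← IsLocalization.mk'_mul, IsLocalization.mk'_eq_iff_eq_mul, ← map_mul,
      ← map_mul] at hee
    obtain ⟨w, hw⟩ := (IsLocalization.eq_iff_exists Q.primeCompl _).1 hee
    obtain ⟨t, ht⟩ := Ideal.Quotient.mk_surjective
      ((w * u₂ * (u₁ * v) : Q.primeCompl) : B ⧸ nilradical B)
    obtain ⟨e', he'⟩ := Ideal.Quotient.mk_surjective ((w : B ⧸ nilradical B) * ε)
    refine ⟨t, fun h => (w * u₂ * (u₁ * v)).2 (ht ▸ (hmem t).2 h), e', (Ideal.Quotient.eq).1 ?_⟩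
    show π (t * c₁) = π (s₁ * e')
    rw [map_mul, map_mul, show π t = _ from ht, show π e' = _ from he']
    simp only [Submonoid.coe_mul] at hw ⊢
    linear_combination -hw

end Noeth

section Local

variable {A B : Type u} [CommRing A] [IsArtinianRing A] [IsLocalRing A] [CommRing B] [Algebra A B]

local notation "φ" => algebraMap A B

lemma le_maximal {I : Ideal A} (h : I ≠ ⊤) : I ≤ maximalIdeal A := le_maximalIdeal h

lemma map_maximal_le_nilradical : (maximalIdeal A).map φ ≤ nilradical B := by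
  rw [Ideal.map_le_iff_le_comap]
  intro x hx
  have : IsNilpotent x := by
    rw [nilpotent_iff_mem_prime]
    intro J hJ
    rwa [eq_maximalIdeal (I := J) inferInstance]
  exact this.map φ

/-- Two consecutive ideals: `J = J₀ + (a)` with `𝔪 a ⊆ J₀`. -/
lemma exists_step {J₀ J : Ideal A} (hlt : J₀ < J)
    (h : ∀ I, J₀ < I → I ≤ J → I = J) :
    ∃ a ∉ J₀, J = J₀ ⊔ Ideal.span {a} ∧ ∀ μ ∈ maximalIdeal A, μ * a ∈ J₀ := by
  obtain ⟨a, haJ, ha⟩ := SetLike.exists_of_lt hlt
  have hsup : ∀ b ∈ J, b ∉ J₀ → J₀ ⊔ Ideal.span {b} = J := fun b hbJ hb => h _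
    (lt_of_le_of_ne le_sup_left fun he => hb (he ▸ Ideal.mem_sup_right (Ideal.mem_span_singleton_self b)))
    (sup_le hlt.le ((Ideal.span_singleton_le_iff_mem _).2 hbJ))
  refine ⟨a, ha, (hsup a haJ ha).symm, fun μ hμ => ?_⟩
  by_contra hn
  obtain ⟨j, hj, c, hc, hjc⟩ := Submodule.mem_sup.1 ((hsup _ (J.mul_mem_left μ haJ) hn).ge haJ)
  obtain ⟨c', rfl⟩ := Ideal.mem_span_singleton'.1 hc
  obtain ⟨w, hw⟩ := isUnit_one_sub_self_of_mem_nonunits (c' * μ)
    ((mem_maximalIdeal _).1 ((maximalIdeal A).mul_mem_left c' hμ))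
  refine ha ?_
  have : (w : A) * a = j := by rw [hw]; linear_combination -hjc
  rw [← Units.inv_mul_cancel_left w a, this]
  exact J₀.mul_mem_left _ hj

lemma mem_map_sup_singleton {J₀ : Ideal A} {a : A} {x : B}
    (hx : x ∈ (J₀ ⊔ Ideal.span {a}).map φ) : ∃ j ∈ J₀.map φ, ∃ e, x = j + φ a * e := by
  rw [Ideal.map_sup, Ideal.map_span, Set.image_singleton] at hx
  obtain ⟨j, hj, c, hc, rfl⟩ := Submodule.mem_sup.1 hx
  obtain ⟨e, rfl⟩ := Ideal.mem_span_singleton'.1 hc
  exact ⟨j, hj, e, by ring⟩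

lemma mul_mem_of_step {J₀ : Ideal A} {a : A} (hμ : ∀ μ ∈ maximalIdeal A, μ * a ∈ J₀) {y : B}
    (hy : y ∈ (maximalIdeal A).map φ) : φ a * y ∈ J₀.map φ := by
  have h : φ a * y ∈ (Ideal.span {a} * maximalIdeal A).map φ := by
    rw [Ideal.map_mul]
    exact Ideal.mul_mem_mul (Ideal.mem_map_of_mem _ (Ideal.mem_span_singleton_self a)) hy
  refine Ideal.map_mono (Ideal.mul_le.2 fun r hr μ hm => ?_) h
  obtain ⟨c, rfl⟩ := Ideal.mem_span_singleton'.1 hr
  rw [mul_assoc, mul_comm a μ]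
  exact J₀.mul_mem_left c (hμ μ hm)

variable (A B) in
/-- The hypothesis in codimension `≤ 1`, elementwise. -/
structure Codim1 : Prop where
  nil : ∀ (q : Ideal B) [q.IsPrime], q.height ≤ 1 → ∀ x ∈ nilradical B,
    ∃ t ∉ q, t * x ∈ (maximalIdeal A).map φ
  colon : ∀ (q : Ideal B) [q.IsPrime], q.height ≤ 1 → ∀ (J : Ideal A) (a : A), a ∉ J →
    ∀ y : B, φ a * y ∈ J.map φ → ∃ t ∉ q, t * y ∈ (maximalIdeal A).map φ

lemma colon_of_flat (q : Ideal B) [q.IsPrime] [Module.Flat A (Localization.AtPrime q)]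
    (J : Ideal A) (a : A) (ha : a ∉ J) (y : B) (hy : φ a * y ∈ J.map φ) :
    ∃ t ∉ q, t * y ∈ (maximalIdeal A).map φ := by
  let L := Localization.AtPrime q
  let K : Ideal A := Submodule.comap (LinearMap.mulRight A a) J
  let f : (A ⧸ K) →ₗ[A] (A ⧸ J) := Submodule.mapQ K J (LinearMap.mulRight A a) le_rfl
  have hf : Function.Injective f := by
    rw [← LinearMap.ker_eq_bot, Submodule.ker_mapQ]
    exact Submodule.mkQ_map_self K
  have h := Module.Flat.lTensor_preserves_injective_linearMap (M := L) f hf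
  have h1 : algebraMap B L y ⊗ₜ[A] Ideal.Quotient.mk K 1 = 0 := h (by
    rw [map_zero, LinearMap.lTensor_tmul]
    refine (tensorQuotEquivQuotSMul L J).injective ?_
    rw [map_zero, show f (Ideal.Quotient.mk K 1) = Ideal.Quotient.mk J (1 * a) from rfl, one_mul,
      tensorQuotEquivQuotSMul_tmul_mk, Submodule.Quotient.mk_eq_zero, Ideal.smul_top_eq_map,
      Submodule.restrictScalars_mem, Algebra.smul_def, IsScalarTower.algebraMap_apply A B L,
      ← map_mul, IsScalarTower.algebraMap_eq A B L, ← Ideal.map_map]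
    exact Ideal.mem_map_of_mem _ hy)
  have h2 := congrArg (tensorQuotEquivQuotSMul L K) h1
  rw [map_zero, tensorQuotEquivQuotSMul_tmul_mk, one_smul, Submodule.Quotient.mk_eq_zero,
    Ideal.smul_top_eq_map, Submodule.restrictScalars_mem, IsScalarTower.algebraMap_eq A B L,
    ← Ideal.map_map, IsLocalization.algebraMap_mem_map_algebraMap_iff q.primeCompl] at h2
  obtain ⟨t, ht, hty⟩ := h2
  refine ⟨t, ht, Ideal.map_mono (le_maximal ?_) hty⟩
  intro hK
  have : (1 : A) * a ∈ J := (Ideal.eq_top_iff_one K).1 hK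
  exact ha (one_mul a ▸ this)

lemma nil_of_isReduced (q : Ideal B) [q.IsPrime] [_root_.IsReduced (EGA4.FibLocRing A B q)]
    (x : B) (hx : x ∈ nilradical B) : ∃ t ∉ q, t * x ∈ (maximalIdeal A).map φ := by
  have h0 : Ideal.Quotient.mk _ (algebraMap B (Localization.AtPrime q) x) = (0 : EGA4.FibLocRing A B q) :=
    IsNilpotent.eq_zero (((mem_nilradical.1 hx).map (algebraMap B (Localization.AtPrime q))).map (Ideal.Quotient.mk _))
  rw [Ideal.Quotient.eq_zero_iff_mem, eq_maximalIdeal (I := q.comap φ) inferInstance,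
    IsScalarTower.algebraMap_eq A B (Localization.AtPrime q), ← Ideal.map_map,
    IsLocalization.algebraMap_mem_map_algebraMap_iff q.primeCompl] at h0
  exact h0

variable [IsNoetherianRing B]

lemma global {J : Ideal A}
    (hS : ∀ (x : B) (q : Ideal B) [q.IsPrime],
      (∀ p ∈ minimalPrimes B, p ≤ q → ∃ t ∉ p, t * x ∈ J.map φ) → ∃ t ∉ q, t * x ∈ J.map φ)
    {x : B} (h : ∀ p ∈ minimalPrimes B, ∃ t ∉ p, t * x ∈ J.map φ) : x ∈ J.map φ := by
  by_contra hx
  obtain ⟨M, hM, hle⟩ := Ideal.exists_le_maximal (Submodule.comap (LinearMap.mulRight B x) (J.map φ))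
    (fun he => hx (by simpa using he.ge (Submodule.mem_top (x := (1 : B)))))
  obtain ⟨t, ht, htx⟩ := hS x M (fun p hp _ => h p hp)
  exact ht (hle htx)

lemma height_le_one_of_min {p : Ideal B} (hp : p ∈ minimalPrimes B) : p.height ≤ 1 := by
  have := hp.1.1
  rw [Ideal.height_eq_zero_iff.2 hp]; exact bot_le

variable (H : Codim1 A B)

include H in
lemma regular_one (q : Ideal B) [q.IsPrime] (hq : q.height ≤ 1) {s : B}
    (hs : ∀ p ∈ minimalPrimes B, p ≤ q → s ∉ p) (J : Ideal A) :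
    ∀ x : B, s * x ∈ J.map φ → ∃ t ∉ q, t * x ∈ J.map φ := by
  induction J using (wellFounded_gt (α := Ideal A)).induction with
  | _ J ih =>
    intro x hx
    by_cases htop : J = ⊤
    · exact ⟨1, (inferInstance : q.IsPrime).one_notMem, by simp [htop, Ideal.map_top]⟩
    rcases eq_or_lt_of_le (le_maximal htop) with rfl | hlt
    · obtain ⟨t, ht, htN⟩ := exists_nil_mul (x := x) (q := q) fun p hp hpq =>
        (hp.1.1.mem_or_mem (@nilradical_le_prime _ _ p hp.1.1 _ (map_maximal_le_nilradical hx))).resolve_left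
          (hs p hp hpq)
      obtain ⟨t', ht', h'⟩ := H.nil q hq _ htN
      exact ⟨t' * t, ‹q.IsPrime›.mul_notMem ht' ht, by rwa [mul_assoc]⟩
    obtain ⟨J₁, hJ₁, hmin⟩ := exists_minimal_of_wellFoundedLT (fun I => J < I) ⟨_, hlt⟩
    obtain ⟨a, ha, rfl, hμ⟩ := exists_step hJ₁ fun I hI hle => le_antisymm hle (hmin hI hle)
    obtain ⟨t, ht, htx⟩ := ih _ hJ₁ x (Ideal.map_mono le_sup_left hx)
    obtain ⟨j, hj, e, he⟩ := mem_map_sup_singleton htx
    obtain ⟨t₂, ht₂, hse⟩ := H.colon q hq J a ha (s * e) (by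
      rw [show φ a * (s * e) = t * (s * x) - s * j by linear_combination -s * he]
      exact sub_mem (Ideal.mul_mem_left _ _ hx) (Ideal.mul_mem_left _ _ hj))
    obtain ⟨t₃, ht₃, hme⟩ := ih _ hlt (t₂ * e) (by rw [mul_left_comm]; exact hse)
    refine ⟨t₃ * t₂ * t, ‹q.IsPrime›.mul_notMem (‹q.IsPrime›.mul_notMem ht₃ ht₂) ht, ?_⟩
    rw [mul_assoc, he, mul_add]
    refine add_mem (Ideal.mul_mem_left _ _ hj) ?_
    rw [show t₃ * t₂ * (φ a * e) = φ a * (t₃ * (t₂ * e)) by ring]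
    exact mul_mem_of_step hμ hme

include H in
lemma mul_mem_iff {J₀ : Ideal A} {a : A} (ha : a ∉ J₀) (hμ : ∀ μ ∈ maximalIdeal A, μ * a ∈ J₀)
    (hS : ∀ (x : B) (q : Ideal B) [q.IsPrime],
      (∀ p ∈ minimalPrimes B, p ≤ q → ∃ t ∉ p, t * x ∈ J₀.map φ) → ∃ t ∉ q, t * x ∈ J₀.map φ)
    (x : B) : φ a * x ∈ J₀.map φ ↔ x ∈ nilradical B := by
  constructor
  · intro hx
    rw [nilradical_eq_sInf, Submodule.mem_sInf]
    intro P hP
    have : Ideal.IsPrime P := hP
    obtain ⟨p, hp, hpP⟩ := Ideal.exists_minimalPrimes_le (bot_le : (⊥ : Ideal B) ≤ P)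
    refine hpP ?_
    have := hp.1.1
    obtain ⟨t, ht, htx⟩ := H.colon p (height_le_one_of_min hp) J₀ a ha x hx
    exact (hp.1.1.mem_or_mem (nilradical_le_prime p (map_maximal_le_nilradical htx))).resolve_left ht
  · intro hx
    refine global hS fun p hp => ?_
    have := hp.1.1
    obtain ⟨t, ht, htx⟩ := H.nil p (height_le_one_of_min hp) x hx
    exact ⟨t, ht, by rw [mul_left_comm]; exact mul_mem_of_step hμ htx⟩

include H in
lemma sat (hS1 : LocCoh.HasSk 1 B B)
    (hS2 : LocCoh.HasSk 2 (B ⧸ nilradical B) (B ⧸ nilradical B)) (J : Ideal A) :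
    ∀ (x : B) (q : Ideal B) [q.IsPrime],
      (∀ p ∈ minimalPrimes B, p ≤ q → ∃ t ∉ p, t * x ∈ J.map φ) → ∃ t ∉ q, t * x ∈ J.map φ := by
  induction J using (wellFounded_lt (α := Ideal A)).induction with
  | _ J ih =>
    intro x q hq h
    by_cases hb : J = ⊥
    · subst hb
      simp only [Ideal.map_bot, Ideal.mem_bot] at h ⊢
      exact sat_bot hS1 x q h
    obtain ⟨J₀, hJ₀, hmax⟩ := exists_maximal_of_wellFoundedGT (fun I => I < J) ⟨⊥, bot_lt_iff_ne_bot.2 hb⟩
    have hS₀ := ih J₀ hJ₀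
    obtain ⟨a, ha, rfl, hμ⟩ := exists_step hJ₀ fun I hI hle =>
      hle.eq_of_not_lt fun hlt => hI.not_ge (hmax hlt hI.le)
    by_contra! hne
    obtain ⟨y, P, hP, hPq, hTP, hPy⟩ := exists_prime_colon
      (T := Submodule.comap (LinearMap.mulRight B x) ((J₀ ⊔ Ideal.span {a}).map φ)) (q := q)
      (fun t ht => not_not.1 fun htq => hne t htq ht)
    have hPy' : ∀ s, s ∈ P ↔ s * (y * x) ∈ (J₀ ⊔ Ideal.span {a}).map φ := fun s => by
      rw [hPy, ← mul_assoc]; rfl
    have hnmin : ∀ p ∈ minimalPrimes B, p ≤ P → ¬ P ≤ p := fun p hp hpP hPp => by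
      obtain ⟨t, ht, htx⟩ := h p hp (hpP.trans hPq)
      exact ht (hPp (hTP htx))
    by_cases hh : P.height ≤ 1
    · obtain ⟨s, hsP, hs⟩ : ∃ s ∈ P, ∀ p ∈ minimalPrimes B, p ≤ P → s ∉ p := by
        have hfin : {p | p ∈ minimalPrimes B ∧ p ≤ P}.Finite :=
          (minimalPrimes.finite_of_isNoetherianRing B).subset fun p hp => hp.1
        by_contra! hcon
        obtain ⟨p, hp, hPp⟩ := (Ideal.subset_union_prime_finite hfin (⊥ : Ideal B) ⊥
          (fun p hp _ _ => hp.1.1.1) (I := P) (f := id)).1 (fun s hs => by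
            obtain ⟨p, hp, hpP, hsp⟩ := hcon s hs
            exact Set.mem_biUnion (⟨hp, hpP⟩ : p ∈ {p | p ∈ minimalPrimes B ∧ p ≤ P}) hsp)
        exact hnmin p hp.1 hp.2 hPp
      obtain ⟨t, ht, htx⟩ := regular_one H P hh hs _ (y * x) ((hPy' s).1 hsP)
      exact ht ((hPy' t).2 htx)
    · obtain ⟨s₁, hs₁P, s₂, hs₂P, hs₁, hreg⟩ := exists_regular_pair hS2 hh
      obtain ⟨j₁, hj₁, c₁, hc₁⟩ := mem_map_sup_singleton ((hPy' s₁).1 hs₁P)
      obtain ⟨j₂, hj₂, c₂, hc₂⟩ := mem_map_sup_singleton ((hPy' s₂).1 hs₂P)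
      obtain ⟨t, ht, e, he⟩ := hreg c₁ c₂ ((mul_mem_iff H ha hμ hS₀ _).1 (by
        rw [show φ a * (s₁ * c₂ - s₂ * c₁) = s₂ * j₁ - s₁ * j₂ by
          linear_combination s₂ * hc₁ - s₁ * hc₂]
        exact sub_mem (Ideal.mul_mem_left _ _ hj₁) (Ideal.mul_mem_left _ _ hj₂)))
      have hkey : s₁ * (t * (y * x) - φ a * e) ∈ J₀.map φ := by
        rw [show s₁ * (t * (y * x) - φ a * e) = t * j₁ + φ a * (t * c₁ - s₁ * e) by
          linear_combination t * hc₁]
        exact add_mem (Ideal.mul_mem_left _ _ hj₁) ((mul_mem_iff H ha hμ hS₀ _).2 he)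
      obtain ⟨t', ht', hx'⟩ := hS₀ (t * (y * x) - φ a * e) P fun p hp hpP =>
        ⟨s₁, hs₁ p hp hpP, hkey⟩
      refine hP.mul_notMem ht' ht ((hPy' _).2 ?_)
      rw [show t' * t * (y * x) = t' * (t * (y * x) - φ a * e) + φ a * (t' * e) by ring]
      exact add_mem (Ideal.map_mono le_sup_left hx') (Ideal.mul_mem_right _ _
        (Ideal.mem_map_of_mem _ (Ideal.mem_sup_right (Ideal.mem_span_singleton_self a))))

include H in
lemma nilradical_le (hS1 : LocCoh.HasSk 1 B B)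
    (hS2 : LocCoh.HasSk 2 (B ⧸ nilradical B) (B ⧸ nilradical B)) :
    nilradical B ≤ (maximalIdeal A).map φ := fun x hx => by
  refine global (sat H hS1 hS2 _) fun p hp => ?_
  have := hp.1.1
  exact H.nil p (height_le_one_of_min hp) x hx

include H in
lemma flat (hS1 : LocCoh.HasSk 1 B B)
    (hS2 : LocCoh.HasSk 2 (B ⧸ nilradical B) (B ⧸ nilradical B)) : Module.Flat A B := by
  rw [Module.Flat.iff_lTensor_injective']
  intro J
  induction J using (wellFounded_lt (α := Ideal A)).induction with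
  | _ J ih =>
    rw [injective_iff_map_eq_zero]
    intro z hz
    by_cases hb : J = ⊥
    · subst hb
      exact Subsingleton.elim _ _
    obtain ⟨J₀, hJ₀, hmax⟩ := exists_maximal_of_wellFoundedGT (fun I => I < J) ⟨⊥, bot_lt_iff_ne_bot.2 hb⟩
    obtain ⟨a, ha, rfl, hμ⟩ := exists_step hJ₀ fun I hI hle =>
      hle.eq_of_not_lt fun hlt => hI.not_ge (hmax hlt hI.le)
    let ι : J₀ →ₗ[A] ↥(J₀ ⊔ Ideal.span {a}) := Submodule.inclusion le_sup_left
    let a' : ↥(J₀ ⊔ Ideal.span {a}) := ⟨a, Ideal.mem_sup_right (Ideal.mem_span_singleton_self a)⟩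
    have hdec : ∀ z : B ⊗[A] ↥(J₀ ⊔ Ideal.span {a}), ∃ z₀ e, z = ι.lTensor B z₀ + e ⊗ₜ[A] a' := by
      intro z
      induction z using TensorProduct.induction_on with
      | zero => exact ⟨0, 0, by simp⟩
      | tmul b j =>
        obtain ⟨j₀, hj₀, c, hc, hjc⟩ := Submodule.mem_sup.1 j.2
        obtain ⟨c, rfl⟩ := Ideal.mem_span_singleton'.1 hc
        refine ⟨b ⊗ₜ ⟨j₀, hj₀⟩, c • b, ?_⟩
        rw [LinearMap.lTensor_tmul, TensorProduct.smul_tmul, ← TensorProduct.tmul_add]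
        congr 1
        exact Subtype.ext hjc.symm
      | add z₁ z₂ h₁ h₂ =>
        obtain ⟨w₁, e₁, rfl⟩ := h₁
        obtain ⟨w₂, e₂, rfl⟩ := h₂
        exact ⟨w₁ + w₂, e₁ + e₂, by rw [map_add, TensorProduct.add_tmul]; abel⟩
    obtain ⟨z₀, e, rfl⟩ := hdec z
    have hev : ∀ w : B ⊗[A] J₀, TensorProduct.rid A B (J₀.subtype.lTensor B w) ∈ J₀.map φ := by
      intro w
      induction w using TensorProduct.induction_on with
      | zero => simp
      | tmul b j =>
        simp only [LinearMap.lTensor_tmul, Submodule.subtype_apply, TensorProduct.rid_tmul,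
          Algebra.smul_def]
        exact Ideal.mul_mem_right _ _ (Ideal.mem_map_of_mem _ j.2)
      | add w₁ w₂ h₁ h₂ => simp only [map_add]; exact add_mem h₁ h₂
    have hz' : TensorProduct.rid A B (J₀.subtype.lTensor B z₀) + φ a * e = 0 := by
      have := congrArg (TensorProduct.rid A B) hz
      rwa [map_zero, map_add, map_add, ← LinearMap.lTensor_comp_apply,
        Submodule.subtype_comp_inclusion, LinearMap.lTensor_tmul, TensorProduct.rid_tmul,
        Submodule.subtype_apply, Algebra.smul_def] at this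
    have he : e ∈ (maximalIdeal A).map φ := nilradical_le H hS1 hS2
      ((mul_mem_iff H ha hμ (sat H hS1 hS2 J₀) e).1 (by
        rw [eq_neg_of_add_eq_zero_right hz']; exact neg_mem (hev z₀)))
    obtain ⟨w, hw⟩ : ∃ w, ι.lTensor B w = e ⊗ₜ[A] a' := by
      have he' : e ∈ maximalIdeal A • (⊤ : Submodule A B) := by
        rw [Ideal.smul_top_eq_map]; exact he
      refine Submodule.smul_induction_on (p := fun e => ∃ w, ι.lTensor B w = e ⊗ₜ[A] a') he'
        (fun μ hm b _ => ⟨b ⊗ₜ ⟨μ * a, hμ μ hm⟩, ?_⟩) (fun x y ⟨w₁, h₁⟩ ⟨w₂, h₂⟩ => ⟨w₁ + w₂, ?_⟩)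
      · rw [LinearMap.lTensor_tmul, TensorProduct.smul_tmul]
        rfl
      · rw [map_add, h₁, h₂, TensorProduct.add_tmul]
    rw [← hw, ← map_add] at hz ⊢
    rw [← LinearMap.lTensor_comp_apply, Submodule.subtype_comp_inclusion] at hz
    rw [(injective_iff_map_eq_zero _).1 (ih J₀ hJ₀) _ hz, map_zero]

end Local

end Groth.Agent.FlatCodim
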